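import Cfsg.Agent.Lib.Blocks.HarrisKnorr
import Cfsg.Agent.Lib.Blocks.TrivialInertia
import Cfsg.Agent.Lib.Blocks.SectionPart
import Cfsg.Agent.Lib.Blocks.Small
import Cfsg.Agent.Lib.BlockOrth.SubsectionCount

/-!
# Local ranks of blocks, indexed by subgroups of the ambient group
-/

set_option autoImplicit false
set_option linter.unusedSectionVars false
set_option linter.style.haveILetI false

namespace CfsgLib.CharsMore.Chains

open Cfsg CfsgLib.Blocks CfsgLib.Chars CfsgLib.BlockOrth

variable {G : Type*} [Group G] [Fintype G] {M : Ideal AlgInt} [M.IsPrime] {p : ℕ} [Fact p.Prime]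

/-- The blocks of a subgroup inducing a given block. -/
def below (M : Ideal AlgInt) (V : Subgroup G) (b : Set (IrrCharacter G)) : Set (Set (IrrCharacter V)) :=
  {e | IsInducedBlock M V e b}

/-- The total rank of the blocks of a subgroup inducing a given block. -/
noncomputable def localRank (p : ℕ) (M : Ideal AlgInt) (V : Subgroup G) (b : Set (IrrCharacter G)) : ℕ :=
  ∑ᶠ e ∈ below M V b, blockRank p e

/-- The members of the blocks of a subgroup inducing a given block. -/
def belowUnion (M : Ideal AlgInt) (V : Subgroup G) (b : Set (IrrCharacter G)) : Set (IrrCharacter V) :=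
  {ψ | ∃ e, ψ ∈ e ∧ IsInducedBlock M V e b}

lemma pullIrr_injective {K H : Type*} [Group K] [Finite K] [Group H] [Finite H] (e : K ≃* H) :
    Function.Injective (pullIrr e) := fun φ ψ h => Subtype.ext (funext fun x => by
  have := congrFun (congrArg Subtype.val h) (e.symm x)
  simpa [pullIrr_apply] using this)

lemma finite_blocks (H : Type*) [Group H] [Finite H] : Finite (Set (IrrCharacter H)) := by
  haveI := irrFintype H
  infer_instance

/-- The ranks of different blocks add up. -/
lemma blockRank_biUnion (hpM : (p : AlgInt) ∈ M) (S : Finset (Set (IrrCharacter G)))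
    (hS : ∀ β ∈ S, IsPBlock M β) :
    blockRank p (⋃ β ∈ S, β) = ∑ β ∈ S, blockRank p β := by
  classical
  haveI := irrFintype G
  induction S using Finset.induction_on with
  | empty => simp [blockRank]
  | insert β S hβ ih =>
    have hSb : ∀ γ ∈ S, IsPBlock M γ := fun γ h => hS γ (Finset.mem_insert_of_mem h)
    have hβb := hS β (Finset.mem_insert_self _ _)
    rw [Finset.sum_insert hβ, ← ih hSb, Finset.set_biUnion_insert]
    unfold blockRank
    set A := Submodule.span ℂ ((fun χ : IrrCharacter G => pRegularPart p (χ : G → ℂ)) '' β)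
    set C := Submodule.span ℂ ((fun χ : IrrCharacter G => pRegularPart p (χ : G → ℂ)) '' ⋃ γ ∈ S, γ)
    have hsup : Submodule.span ℂ ((fun χ : IrrCharacter G => pRegularPart p (χ : G → ℂ)) '' (β ∪ ⋃ γ ∈ S, γ)) =
        A ⊔ C := by rw [Set.image_union, Submodule.span_union]
    rw [hsup]
    have horth : ∀ (T : Set (IrrCharacter G)) (ψ : IrrCharacter G),
        (∀ χ ∈ T, ∃ B, IsPBlock M B ∧ χ ∈ B ∧ ψ ∉ B) →
        ∀ v ∈ Submodule.span ℂ ((fun χ : IrrCharacter G => pRegularPart p (χ : G → ℂ)) '' T),
          classInner v (ψ : G → ℂ) = 0 := by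
      intro T ψ hT v hv
      induction hv using Submodule.span_induction with
      | mem x hx =>
        obtain ⟨χ, hχ, rfl⟩ := hx
        obtain ⟨B, hB, hχB, hψB⟩ := hT χ hχ
        have h := pInt_spec (p := p) χ ψ
        rw [pInt_eq_zero hpM hB hχB hψB, pInner, Int.cast_zero] at h
        exact (mul_eq_zero.mp h).resolve_left (by simp [(Fact.out : p.Prime).ne_zero])
      | zero => exact Chars.inner_zero_left _
      | add x y _ _ h1 h2 => rw [Chars.inner_add_left, h1, h2, add_zero]
      | smul c x _ h1 => rw [Chars.inner_smul_left, h1, mul_zero]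
    have hcl : ∀ v ∈ A, IsClassFunction G v := by
      intro v hv
      induction hv using Submodule.span_induction with
      | mem x hx =>
        obtain ⟨χ, -, rfl⟩ := hx
        exact isClassFunction_pRegularPart (isClassFunction_irr χ)
      | zero => exact isClassFunction_zero
      | add x y _ _ h1 h2 => exact isClassFunction_add h1 h2
      | smul c x _ h1 => exact isClassFunction_smul c h1
    have hinf : A ⊓ C = ⊥ := by
      refine (Submodule.eq_bot_iff _).2 fun v hv => eq_zero_of_inner_irr (hcl v hv.1) fun ψ => ?_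
      by_cases hψ : ψ ∈ β
      · refine horth _ ψ (fun χ hχ => ?_) v hv.2
        simp only [Set.mem_iUnion] at hχ
        obtain ⟨γ, hγ, hχγ⟩ := hχ
        exact ⟨γ, hSb γ hγ, hχγ, fun h => hβ (IsPBlock.eq_of_mem hβb (hSb γ hγ) hψ h ▸ hγ)⟩
      · exact horth _ ψ (fun χ hχ => ⟨β, hβb, hχ, hψ⟩) v hv.1
    have := Submodule.finrank_sup_add_finrank_inf_eq A C
    rw [hinf, finrank_bot, add_zero] at this
    exact this

lemma below_finite (V : Subgroup G) (b : Set (IrrCharacter G)) : (below M V b).Finite := by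
  haveI := finite_blocks V
  exact Set.toFinite _

lemma card_belowUnion (V : Subgroup G) [Fintype V] (b : Set (IrrCharacter G)) :
    Nat.card (belowUnion M V b) = ∑ e ∈ (below_finite (M := M) V b).toFinset, Nat.card e := by
  classical
  haveI := irrFintype V
  haveI := finite_blocks V
  have e1 : belowUnion M V b = ⋃ e ∈ (below_finite (M := M) V b).toFinset, e := by
    ext ψ
    simp only [belowUnion, below, Set.mem_ofPred_eq, Set.mem_iUnion, Set.Finite.mem_toFinset, exists_prop]
    exact exists_congr fun e => (and_congr_right fun _ => (below_finite (M := M) V b).mem_toFinset.symm).trans and_comm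
  rw [e1, Nat.card_eq_fintype_card, ← Set.toFinset_card]
  simp only [Nat.card_eq_fintype_card, ← Set.toFinset_card]
  rw [← Finset.card_biUnion]
  · congr 1
    ext ψ
    simp
  · intro e he e' he' hne
    refine Finset.disjoint_left.2 fun ψ h h' => hne ?_
    rw [Set.mem_toFinset] at h h'
    have he0 : IsPBlock M e := ((below_finite (M := M) V b).mem_toFinset.1 he).1
    have he0' : IsPBlock M e' := ((below_finite (M := M) V b).mem_toFinset.1 he').1
    exact IsPBlock.eq_of_mem he0 he0' h h'

lemma blockRank_belowUnion (hpM : (p : AlgInt) ∈ M) (V : Subgroup G) [Fintype V] (b : Set (IrrCharacter G)) :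
    blockRank p (belowUnion M V b) = localRank p M V b := by
  classical
  have e1 : belowUnion M V b = ⋃ e ∈ (below_finite (M := M) V b).toFinset, e := by
    ext ψ
    simp only [belowUnion, below, Set.mem_ofPred_eq, Set.mem_iUnion, Set.Finite.mem_toFinset, exists_prop]
    exact exists_congr fun e => (and_congr_right fun _ => (below_finite (M := M) V b).mem_toFinset.symm).trans and_comm
  rw [e1, blockRank_biUnion hpM _ (fun e he => ((below_finite (M := M) V b).mem_toFinset.1 he).1), localRank,
    finsum_mem_eq_finite_toFinset_sum _ (below_finite (M := M) V b)]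

/-- Inducing in two steps. -/
lemma induced_iff_of_induced {H : Subgroup G} [Fintype H] {U : Subgroup H} {V : Subgroup G}
    (hV : V ≤ H) (hUV : ∀ h : H, h ∈ U ↔ (h : G) ∈ V) {e : Set (IrrCharacter V)} (he : IsPBlock M e)
    {β : Set (IrrCharacter H)} (h1 : IsInducedBlock M U (pullIrr (transIso hV hUV) '' e) β)
    {b : Set (IrrCharacter G)} (hb : IsPBlock M b) :
    IsInducedBlock M V e b ↔ IsInducedBlock M H β b := by
  haveI := Fintype.ofFinite U
  haveI := Fintype.ofFinite V
  have key : ∀ ξ ∈ e, ∀ η ∈ β, ∀ g : G, MemLocalIdeal M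
      (inducedCentralChar V (ξ : V → ℂ) g - inducedCentralChar H (η : H → ℂ) g) := by
    intro ξ hξ η hη g
    have ha : IsLocClassFun M (resFun H (classInd g)) := isLocClassFun_resFun H (isLocClassFun_classInd g)
    have e1 := IsInducedBlock.omega_sub h1 ⟨ξ, hξ, rfl⟩ hη ha
    have e3 : omega (pullIrr (transIso hV hUV) ξ : U → ℂ) (resFun U (resFun H (classInd g))) =
        inducedCentralChar V (ξ : V → ℂ) g := by
      rw [omega_pullIrr, inducedCentralChar_eq]
      rfl
    rw [e3, ← inducedCentralChar_eq] at e1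
    exact e1
  obtain ⟨ξ₀, hξ₀⟩ := IsPBlock.nonempty he
  obtain ⟨η₀, hη₀⟩ := IsPBlock.nonempty h1.2.1
  constructor
  · refine fun h => ⟨h1.2.1, hb, fun η hη χ hχ g => ?_⟩
    have := MemLocalIdeal.add' (MemLocalIdeal.neg' (key ξ₀ hξ₀ η hη g)) (h.2.2 ξ₀ hξ₀ χ hχ g)
    rwa [neg_sub, sub_add_sub_cancel] at this
  · refine fun h => ⟨he, hb, fun ξ hξ χ hχ g => ?_⟩
    have := MemLocalIdeal.add' (key ξ hξ η₀ hη₀ g) (h.2.2 η₀ hη₀ χ hχ g)
    rwa [sub_add_sub_cancel] at this

/-- A block is the only block of the whole group below it. -/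
lemma below_top (b : Set (IrrCharacter G)) (hb : IsPBlock M b) :
    below M (⊤ : Subgroup G) b = {pullIrr (Subgroup.topEquiv (G := G)) '' b} := by
  classical
  haveI := Fintype.ofFinite (⊤ : Subgroup G)
  set e₀ := pullIrr (Subgroup.topEquiv (G := G)) '' b with he₀
  have hind : ∀ (ξ : IrrCharacter (⊤ : Subgroup G)) (g : G),
      inducedCentralChar (⊤ : Subgroup G) (ξ : (⊤ : Subgroup G) → ℂ) g =
        centralChar (pullIrr (Subgroup.topEquiv (G := G)).symm ξ : G → ℂ) g := by
    intro ξ g
    rw [inducedCentralChar_eq, omega, ← omega_classInd, omega]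
    congr 1
    exact Fintype.sum_equiv (Subgroup.topEquiv (G := G)).toEquiv _ _ fun u => rfl
  have hback : ∀ χ : IrrCharacter G,
      pullIrr (Subgroup.topEquiv (G := G)).symm (pullIrr (Subgroup.topEquiv (G := G)) χ) = χ := fun χ => by
    refine Subtype.ext (funext fun x => ?_)
    rw [pullIrr_apply, pullIrr_apply, MulEquiv.apply_symm_apply]
  have h0 : IsInducedBlock M (⊤ : Subgroup G) e₀ b := by
    refine ⟨isPBlock_image_pullIrr _ hb, hb, ?_⟩
    rintro _ ⟨φ, hφ, rfl⟩ χ hχ g
    rw [hind, hback]
    exact IsPBlock.sameBlock hb hφ hχ g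
  have hset : below M (⊤ : Subgroup G) b = {e₀} := by
    ext e
    refine ⟨fun he => ?_, fun he => he ▸ h0⟩
    obtain ⟨ξ, hξ⟩ := IsPBlock.nonempty he.1
    obtain ⟨χ, hχ⟩ := IsPBlock.nonempty hb
    have hmem : pullIrr (Subgroup.topEquiv (G := G)).symm ξ ∈ b := by
      refine IsPBlock.mem_of_sameBlock hb hχ fun g => ?_
      rw [← neg_sub, ← hind]
      exact MemLocalIdeal.neg' (he.2.2 ξ hξ χ hχ g)
    have hξe : ξ ∈ e₀ := ⟨_, hmem, by
      refine Subtype.ext (funext fun x => ?_)
      rw [pullIrr_apply, pullIrr_apply, MulEquiv.symm_apply_apply]⟩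
    exact IsPBlock.eq_of_mem he.1 h0.1 hξ hξe
  exact hset

/-- The local rank of the whole group. -/
lemma localRank_top (b : Set (IrrCharacter G)) (hb : IsPBlock M b) :
    localRank p M (⊤ : Subgroup G) b = blockRank p b := by
  rw [localRank, below_top b hb, finsum_mem_singleton, blockRank_image_pullIrr]

/-- The members of a block, seen in the whole group. -/
lemma card_belowUnion_top (b : Set (IrrCharacter G)) (hb : IsPBlock M b) :
    Nat.card (belowUnion M (⊤ : Subgroup G) b) = Nat.card b := by
  have h : belowUnion M (⊤ : Subgroup G) b = pullIrr (Subgroup.topEquiv (G := G)) '' b := by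
    ext ψ
    constructor
    · rintro ⟨e, hψ, he⟩
      have h1 : e ∈ below M (⊤ : Subgroup G) b := he
      rw [below_top b hb, Set.mem_singleton_iff] at h1
      exact h1 ▸ hψ
    · intro hψ
      refine ⟨_, hψ, ?_⟩
      have h1 : pullIrr (Subgroup.topEquiv (G := G)) '' b ∈ below M (⊤ : Subgroup G) b := by
        rw [below_top b hb]
        exact rfl
      exact h1
  rw [h, Nat.card_image_of_injective (pullIrr_injective _)]

/-- The `p`-elements of a subgroup. -/
noncomputable def pElts (p : ℕ) (H : Subgroup G) : Finset G := by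
  classical exact Finset.univ.filter fun x => x ∈ H ∧ ∃ k, orderOf x = p ^ k

lemma mem_pElts {H : Subgroup G} {x : G} : x ∈ pElts p H ↔ x ∈ H ∧ ∃ k, orderOf x = p ^ k := by
  classical
  simp [pElts]

/-- The counting formula for a union of blocks of a subgroup. -/
theorem card_mul_card_belowUnion (hM : IsPModular p M) (H : Subgroup G) [Fintype H]
    (b : Set (IrrCharacter G)) (hb : IsPBlock M b) :
    Nat.card H * Nat.card (belowUnion M H b) =
      ∑ x ∈ pElts p H, Nat.card ↥(Subgroup.centralizer ({x} : Set G) ⊓ H) *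
        localRank p M (Subgroup.centralizer ({x} : Set G) ⊓ H) b := by
  classical
  have hpM : (p : AlgInt) ∈ M := hM.2.2
  haveI := finite_blocks H
  set S := (below_finite (M := M) H b).toFinset with hS
  have hSb : ∀ β ∈ S, IsInducedBlock M H β b := fun β hβ => (below_finite (M := M) H b).mem_toFinset.1 hβ
  -- representatives
  let P : Finset H := Finset.univ.filter fun x => ∃ k, orderOf x = p ^ k
  let R : H → H := fun x => Quotient.out (s := IsConj.setoid H) (Quotient.mk (IsConj.setoid H) x)
  have hR : ∀ x, IsConj x (R x) := fun x => (Quotient.mk_out (s := IsConj.setoid H) x).symm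
  have hR' : ∀ x y, IsConj x y → R x = R y := fun x y h => by
    simp only [R, Quotient.sound (s := IsConj.setoid H) h]
  have hordc : ∀ x y : H, IsConj x y → orderOf x = orderOf y := fun x y h => by
    obtain ⟨c, rfl⟩ := isConj_iff.1 h
    exact ((MulAut.conj c).orderOf_eq x).symm
  let X : Finset H := P.image R
  have hXmem : ∀ x ∈ X, ∃ k, orderOf x = p ^ k := fun x hx => by
    obtain ⟨y, hy, rfl⟩ := Finset.mem_image.1 hx
    rw [← hordc y _ (hR y)]
    exact (Finset.mem_filter.1 hy).2
  -- the local term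
  let f : H → ℕ := fun x => localRank p M (Subgroup.centralizer ({(x : G)} : Set G) ⊓ H) b
  have hloc : ∀ x : H, (∃ k, orderOf x = p ^ k) →
      ∑ β ∈ S, (∑ᶠ e ∈ {e : Set (IrrCharacter (Subgroup.centralizer ({x} : Set H))) |
        IsInducedBlock M (Subgroup.centralizer ({x} : Set H)) e β}, blockRank p e) = f x := by
    intro x hx
    set U := Subgroup.centralizer ({x} : Set H) with hU
    set V := Subgroup.centralizer ({(x : G)} : Set G) ⊓ H with hVdef
    have hV : V ≤ H := inf_le_right
    have hUV : ∀ h : H, h ∈ U ↔ (h : G) ∈ V := fun h => by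
      rw [hU, hVdef, Subgroup.mem_inf, Subgroup.mem_centralizer_singleton_iff, Subgroup.mem_centralizer_singleton_iff]
      exact ⟨fun e => ⟨congrArg Subtype.val e, h.2⟩, fun e => Subtype.ext e.1⟩
    haveI := Fintype.ofFinite U
    haveI := Fintype.ofFinite V
    haveI := finite_blocks U
    haveI := finite_blocks V
    haveI := Fintype.ofFinite (Set (IrrCharacter U))
    set ι : Set (IrrCharacter V) → Set (IrrCharacter U) := fun e => pullIrr (transIso hV hUV) '' e with hι
    have hιinj : Function.Injective ι := (pullIrr_injective _).image_injective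
    have h1 : (Finset.univ.filter fun e : Set (IrrCharacter U) => ∃ β ∈ S, IsInducedBlock M U e β) =
        (below_finite (M := M) V b).toFinset.image ι := by
      ext e
      simp only [Finset.mem_filter, Finset.mem_univ, true_and, Finset.mem_image, Set.Finite.mem_toFinset]
      constructor
      · rintro ⟨β, hβ, he⟩
        refine ⟨pullIrr (transIso hV hUV).symm '' e, ?_, ?_⟩
        · have he' : IsInducedBlock M U (ι (pullIrr (transIso hV hUV).symm '' e)) β := by
            convert he using 1
            simp [hι, Set.image_image, pullIrr_symm]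
          exact (induced_iff_of_induced hV hUV (isPBlock_image_pullIrr _ he.1) he' hb).2 (hSb β hβ)
        · simp [hι, Set.image_image, pullIrr_symm]
      · rintro ⟨e, he, rfl⟩
        obtain ⟨β, hβ⟩ := exists_isInducedBlock_centralizer hpM hx (isPBlock_image_pullIrr (transIso hV hUV) he.1)
        exact ⟨β, (below_finite (M := M) H b).mem_toFinset.2 ((induced_iff_of_induced hV hUV he.1 hβ hb).1 he), hβ⟩
    have h2 : ∀ β : Set (IrrCharacter H),
        (∑ᶠ e ∈ {e : Set (IrrCharacter U) | IsInducedBlock M U e β}, blockRank p e) =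
          ∑ e : Set (IrrCharacter U) with IsInducedBlock M U e β, blockRank p e := fun β =>
      finsum_mem_eq_sum_of_inter_support_eq _ (by ext; simp)
    simp only [h2]
    rw [← Finset.sum_biUnion]
    · rw [show (S.biUnion fun β => Finset.univ.filter fun e : Set (IrrCharacter U) => IsInducedBlock M U e β) =
        Finset.univ.filter fun e : Set (IrrCharacter U) => ∃ β ∈ S, IsInducedBlock M U e β by ext; simp, h1,
        Finset.sum_image hιinj.injOn]
      show _ = localRank p M V b
      rw [localRank, finsum_mem_eq_finite_toFinset_sum _ (below_finite (M := M) V b)]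
      exact Finset.sum_congr rfl fun e _ => blockRank_image_pullIrr _ e
    · intro β _ γ _ hne
      refine Finset.disjoint_left.2 fun e h h' => hne ?_
      exact IsInducedBlock.unique (Finset.mem_filter.1 h).2 (Finset.mem_filter.1 h').2
  have hsumX : ∀ h : H, Nat.card (belowUnion M H b) = ∑ x ∈ X, f (h * x * h⁻¹) := by
    intro h
    rw [card_belowUnion, ← hS, Finset.sum_congr rfl fun β hβ =>
      card_block_eq_sum_ranks hM (hSb β hβ).1 (X := X.image fun x => h * x * h⁻¹) (fun x hx => by
        obtain ⟨y, hy, rfl⟩ := Finset.mem_image.1 hx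
        rw [show h * y * h⁻¹ = MulAut.conj h y from rfl, MulEquiv.orderOf_eq]
        exact hXmem y hy) (fun g hg => by
        refine ⟨h * R g * h⁻¹, ⟨Finset.mem_image_of_mem _ (Finset.mem_image_of_mem _
          (Finset.mem_filter.2 ⟨Finset.mem_univ _, hg⟩)), (hR g).trans (isConj_iff.2 ⟨h, rfl⟩)⟩, ?_⟩
        rintro y ⟨hy, hgy⟩
        obtain ⟨z, hz, rfl⟩ := Finset.mem_image.1 hy
        obtain ⟨w, -, rfl⟩ := Finset.mem_image.1 hz
        rw [hR' w g ((hR w).trans ((isConj_iff.2 ⟨h, rfl⟩ : IsConj (R w) _).trans hgy.symm))]),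
      Finset.sum_comm, Finset.sum_image fun a _ c _ e => mul_left_cancel (mul_right_cancel e)]
    exact Finset.sum_congr rfl fun x hx => hloc _ (by
      rw [show h * x * h⁻¹ = MulAut.conj h x from rfl, MulEquiv.orderOf_eq]
      exact hXmem x hx)
  have hsum : Nat.card H * Nat.card (belowUnion M H b) = ∑ h : H, ∑ x ∈ X, f (h * x * h⁻¹) := by
    rw [← Finset.sum_congr rfl fun h _ => hsumX h, Finset.sum_const, Finset.card_univ,
      Nat.card_eq_fintype_card (α := H), smul_eq_mul]
  rw [hsum, Finset.sum_comm]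
  have hfib : ∀ y ∈ P, (Finset.univ.filter fun hx : H × H => hx.2 ∈ X ∧ hx.1 * hx.2 * hx.1⁻¹ = y).card =
      Nat.card ↥(Subgroup.centralizer ({(y : G)} : Set G) ⊓ H) := by
    intro y hy
    obtain ⟨c, hc⟩ := isConj_iff.1 (hR y).symm
    rw [← Fintype.card_subtype, ← Nat.card_eq_fintype_card]
    refine Nat.card_congr
      { toFun := fun hx => ⟨((hx.1.1 * c⁻¹ : H) : G), ⟨?_, (hx.1.1 * c⁻¹).2⟩⟩
        invFun := fun u => ⟨(⟨u.1, u.2.2⟩ * c, R y), ?_⟩
        left_inv := fun hx => ?_
        right_inv := fun u => ?_ }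
    · obtain ⟨⟨h, x⟩, hx, he⟩ := hx
      have hxR : x = R y := by
        obtain ⟨z, -, rfl⟩ := Finset.mem_image.1 hx
        exact hR' z y ((hR z).trans (isConj_iff.2 ⟨h, he⟩))
      subst hxR
      show ((h * c⁻¹ : H) : G) ∈ Subgroup.centralizer ({(y : G)} : Set G)
      rw [Subgroup.mem_centralizer_singleton_iff, ← Subgroup.coe_mul, ← Subgroup.coe_mul]
      refine congrArg Subtype.val ?_
      show h * c⁻¹ * y = y * (h * c⁻¹)
      have hy' : R y = c⁻¹ * y * c := by
        calc R y = c⁻¹ * (c * R y * c⁻¹) * c := by group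
          _ = _ := by rw [hc]
      have he' : y = h * (c⁻¹ * y * c) * h⁻¹ := by rw [← hy']; exact he.symm
      nth_rewrite 2 [he']
      group
    · refine ⟨Finset.mem_image_of_mem _ hy, ?_⟩
      have hu : (⟨u.1, u.2.2⟩ : H) * y = y * ⟨u.1, u.2.2⟩ :=
        Subtype.ext (Subgroup.mem_centralizer_singleton_iff.1 u.2.1)
      calc (⟨u.1, u.2.2⟩ : H) * c * R y * (⟨u.1, u.2.2⟩ * c)⁻¹ =
            (⟨u.1, u.2.2⟩ : H) * (c * R y * c⁻¹) * (⟨u.1, u.2.2⟩ : H)⁻¹ := by group
        _ = y := by rw [hc, hu, mul_inv_cancel_right]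
    · obtain ⟨⟨h, x⟩, hx, he⟩ := hx
      have hxR : x = R y := by
        obtain ⟨z, -, rfl⟩ := Finset.mem_image.1 hx
        exact hR' z y ((hR z).trans (isConj_iff.2 ⟨h, he⟩))
      subst hxR
      exact Subtype.ext (Prod.ext (inv_mul_cancel_right h c) rfl)
    · exact Subtype.ext (congrArg Subtype.val (mul_inv_cancel_right (⟨u.1, u.2.2⟩ : H) c) :)
  rw [← Finset.sum_product', ← Finset.sum_fiberwise_of_maps_to (t := P)
    (g := fun xh : H × H => xh.2 * xh.1 * xh.2⁻¹) (fun xh hxh => by
      refine Finset.mem_filter.2 ⟨Finset.mem_univ _, ?_⟩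
      rw [show xh.2 * xh.1 * xh.2⁻¹ = MulAut.conj xh.2 xh.1 from rfl, MulEquiv.orderOf_eq]
      exact hXmem _ (Finset.mem_product.1 hxh).1)]
  refine Finset.sum_bij (fun y _ => (y : G)) (fun y hy => mem_pElts.2 ⟨y.2, by
      obtain ⟨k, hk⟩ := (Finset.mem_filter.1 hy).2
      exact ⟨k, by rw [Subgroup.orderOf_coe, hk]⟩⟩) (fun a _ c _ e => Subtype.ext e) (fun x hx => ?_) (fun y hy => ?_)
  · obtain ⟨hxH, k, hk⟩ := mem_pElts.1 hx
    exact ⟨⟨x, hxH⟩, Finset.mem_filter.2 ⟨Finset.mem_univ _, k, by rw [Subgroup.orderOf_mk, hk]⟩, rfl⟩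
  · rw [Finset.sum_congr rfl (g := fun _ => f y) (fun xh hxh => by rw [(Finset.mem_filter.1 hxh).2]),
      Finset.sum_const, smul_eq_mul, ← hfib y hy]
    congr 1
    refine Finset.card_bij (fun xh _ => (xh.2, xh.1)) (fun xh hxh => ?_) (fun a _ c _ e => ?_)
      (fun hx hhx => ⟨(hx.2, hx.1), ?_, rfl⟩)
    · simp only [Finset.mem_filter, Finset.mem_product, Finset.mem_univ, and_true, true_and] at hxh ⊢
      exact hxh
    · exact Prod.ext (congrArg Prod.snd e) (congrArg Prod.fst e)
    · simp only [Finset.mem_filter, Finset.mem_product, Finset.mem_univ, and_true, true_and] at hhx ⊢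
      exact hhx

end CfsgLib.CharsMore.Chains
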