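import Mathlib

/-!
# Chains of p-subgroups normal in their largest member: toggling

For an element `x` of prime power order the chains that `x` stabilizes cancel in pairs, except the
chain with the single member `⟨x⟩`.
-/

set_option autoImplicit false
set_option linter.unusedSectionVars false
set_option linter.style.haveILetI false
set_option linter.style.openClassical false

namespace CfsgLib.CharsMore.Chains

open scoped Classical

variable {G : Type*} [Group G] {p : ℕ}

/-- A nonempty chain of nontrivial `p`-subgroups, each normal in the largest one. -/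
def IsNormalChain (p : ℕ) (s : Finset (Subgroup G)) : Prop :=
  s.Nonempty ∧ (∀ Q ∈ s, ∀ R ∈ s, Q ≤ R ∨ R ≤ Q) ∧ (∀ Q ∈ s, Q ≠ ⊥ ∧ IsPGroup p Q) ∧
    ∃ T ∈ s, ∀ Q ∈ s, Q ≤ T ∧ T ≤ Subgroup.normalizer (Q : Set G)

/-- The stabilizer of a chain. -/
def chainStab (s : Finset (Subgroup G)) : Subgroup G := ⨅ Q ∈ s, Subgroup.normalizer (Q : Set G)

lemma chainStab_le {s : Finset (Subgroup G)} {Q : Subgroup G} (h : Q ∈ s) :
    chainStab s ≤ Subgroup.normalizer (Q : Set G) := iInf₂_le Q h

lemma mem_chainStab {s : Finset (Subgroup G)} {g : G} :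
    g ∈ chainStab s ↔ ∀ Q ∈ s, g ∈ Subgroup.normalizer (Q : Set G) := by
  simp [chainStab, Subgroup.mem_iInf]

lemma chainStab_insert (R : Subgroup G) (s : Finset (Subgroup G)) :
    chainStab (insert R s) = Subgroup.normalizer (R : Set G) ⊓ chainStab s := by
  ext g
  simp [mem_chainStab]

lemma le_normalizer_bot (H : Subgroup G) : H ≤ Subgroup.normalizer ((⊥ : Subgroup G) : Set G) :=
  fun g _ => by rw [Subgroup.mem_normalizer_iff_map_conj_eq, Subgroup.map_bot]

lemma le_normalizer_sup {H A B : Subgroup G} (hA : H ≤ Subgroup.normalizer (A : Set G))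
    (hB : H ≤ Subgroup.normalizer (B : Set G)) : H ≤ Subgroup.normalizer ((A ⊔ B : Subgroup G) : Set G) :=
  fun g hg => by
    rw [Subgroup.mem_normalizer_iff_map_conj_eq]
    rw [Subgroup.map_sup, (Subgroup.mem_normalizer_iff_map_conj_eq).1 (hA hg),
      (Subgroup.mem_normalizer_iff_map_conj_eq).1 (hB hg)]

/-- The normal closure of `x` in `T`. -/
def conjClosure (x : G) (T : Subgroup G) : Subgroup G :=
  Subgroup.closure {z | ∃ t ∈ T, t * x * t⁻¹ = z}

lemma mem_conjClosure (x : G) (T : Subgroup G) : x ∈ conjClosure x T :=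
  Subgroup.subset_closure ⟨1, one_mem T, by simp⟩

lemma conjClosure_le {x : G} {T Q : Subgroup G} (hx : x ∈ Q) (hT : T ≤ Subgroup.normalizer (Q : Set G)) :
    conjClosure x T ≤ Q := by
  refine (Subgroup.closure_le _).2 ?_
  rintro _ ⟨t, ht, rfl⟩
  exact (Subgroup.mem_normalizer_iff.1 (hT ht) x).1 hx

lemma mem_normalizer_conjClosure {x : G} {T : Subgroup G} {g : G}
    (hgT : g ∈ Subgroup.normalizer (T : Set G)) (hgx : ∃ t ∈ T, t * x * t⁻¹ = g * x * g⁻¹) :
    g ∈ Subgroup.normalizer (conjClosure x T : Set G) := by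
  obtain ⟨t₀, ht₀, htx⟩ := hgx
  rw [Subgroup.mem_normalizer_iff_map_conj_eq, conjClosure, MonoidHom.map_closure]
  congr 1
  ext z
  simp only [Set.mem_image, Set.mem_ofPred_eq]
  constructor
  · rintro ⟨_, ⟨t, ht, rfl⟩, rfl⟩
    refine ⟨g * t * g⁻¹ * t₀, mul_mem ((Subgroup.mem_normalizer_iff.1 hgT t).1 ht) ht₀, ?_⟩
    show _ = g * (t * x * t⁻¹) * g⁻¹
    calc g * t * g⁻¹ * t₀ * x * (g * t * g⁻¹ * t₀)⁻¹
        = g * t * g⁻¹ * (t₀ * x * t₀⁻¹) * (g * t * g⁻¹)⁻¹ := by group
      _ = g * (t * x * t⁻¹) * g⁻¹ := by rw [htx]; group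
  · rintro ⟨t, ht, rfl⟩
    refine ⟨_, ⟨g⁻¹ * (t * t₀⁻¹) * g,
      (Subgroup.mem_normalizer_iff''.1 hgT (t * t₀⁻¹)).1 (mul_mem ht (inv_mem ht₀)), rfl⟩, ?_⟩
    show g * _ * g⁻¹ = t * x * t⁻¹
    calc g * (g⁻¹ * (t * t₀⁻¹) * g * x * (g⁻¹ * (t * t₀⁻¹) * g)⁻¹) * g⁻¹
        = t * t₀⁻¹ * (g * x * g⁻¹) * (t * t₀⁻¹)⁻¹ := by group
      _ = t * x * t⁻¹ := by rw [← htx]; group

/-- In a finite `p`-group a normal subgroup and the conjugates of `x` generate no more than that
subgroup and `x`, unless they fail to generate the whole. -/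
lemma eq_sup_zpowers [Finite G] [Fact p.Prime] {T A : Subgroup G} (hT : IsPGroup p T) {x : G} (hx : x ∈ T)
    (hAT : A ≤ T) (h : T = A ⊔ conjClosure x T) : T = A ⊔ Subgroup.zpowers x := by
  refine le_antisymm ?_ (sup_le hAT (Subgroup.zpowers_le.2 hx))
  by_contra hne
  have hW : (A ⊔ Subgroup.zpowers x).subgroupOf T ≠ ⊤ := fun e => hne (Subgroup.subgroupOf_eq_top.1 e)
  obtain ⟨K, hK, hle⟩ := (eq_top_or_exists_le_coatom ((A ⊔ Subgroup.zpowers x).subgroupOf T)).resolve_left hW
  haveI : Group.IsNilpotent T := hT.isNilpotent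
  haveI hKn : K.Normal :=
    Subgroup.NormalizerCondition.normal_of_coatom K Group.normalizerCondition_of_isNilpotent hK
  have hA' : A ≤ K.map T.subtype := fun a ha =>
    ⟨⟨a, hAT ha⟩, hle (Subgroup.mem_subgroupOf.2 (le_sup_left (b := Subgroup.zpowers x) ha)), rfl⟩
  have hC : conjClosure x T ≤ K.map T.subtype := by
    refine (Subgroup.closure_le _).2 ?_
    rintro _ ⟨t, ht, rfl⟩
    exact ⟨⟨t, ht⟩ * ⟨x, hx⟩ * ⟨t, ht⟩⁻¹, hKn.conj_mem _ (hle (Subgroup.mem_subgroupOf.2
      (le_sup_right (a := A) (Subgroup.mem_zpowers x)))) _, rfl⟩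
  refine hK.1 (eq_top_iff.2 fun u _ => ?_)
  obtain ⟨k, hk, hku⟩ := (h.le.trans (sup_le hA' hC)) u.2
  exact Subtype.ext hku ▸ hk

/-- The largest member of a chain. -/
noncomputable def chainTop (s : Finset (Subgroup G)) : Subgroup G := s.sup id

lemma chainTop_eq {s : Finset (Subgroup G)} {T : Subgroup G} (hT : T ∈ s) (h : ∀ Q ∈ s, Q ≤ T) :
    chainTop s = T :=
  le_antisymm (Finset.sup_le h) (Finset.le_sup (f := id) hT)

/-- The largest member that misses `x`. -/
noncomputable def lowTop (x : G) (s : Finset (Subgroup G)) : Subgroup G :=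
  (s.filter fun Q => x ∉ Q).sup id

/-- The member to be toggled. -/
noncomputable def pivot (x : G) (s : Finset (Subgroup G)) : Subgroup G :=
  if x ∈ chainTop s then lowTop x s ⊔ conjClosure x (chainTop s) else chainTop s ⊔ Subgroup.zpowers x

/-- Toggling the pivot. -/
noncomputable def toggle (x : G) (s : Finset (Subgroup G)) : Finset (Subgroup G) :=
  if pivot x s ∈ s then s.erase (pivot x s) else insert (pivot x s) s

lemma mem_pivot (x : G) (s : Finset (Subgroup G)) : x ∈ pivot x s := by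
  unfold pivot
  split_ifs
  · exact le_sup_right (a := lowTop x s) (mem_conjClosure x _)
  · exact le_sup_right (a := chainTop s) (Subgroup.mem_zpowers x)

section

variable {x : G} {s : Finset (Subgroup G)}

lemma exists_top (hs : IsNormalChain p s) :
    chainTop s ∈ s ∧ ∀ Q ∈ s, Q ≤ chainTop s ∧ chainTop s ≤ Subgroup.normalizer (Q : Set G) := by
  obtain ⟨T, hT, h⟩ := hs.2.2.2
  rw [chainTop_eq hT fun Q hQ => (h Q hQ).1]
  exact ⟨hT, h⟩

lemma lowTop_cases (hs : IsNormalChain p s) :
    lowTop x s = ⊥ ∨ (lowTop x s ∈ s ∧ x ∉ lowTop x s) := by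
  rcases (s.filter fun Q => x ∉ Q).eq_empty_or_nonempty with he | hne
  · left
    rw [lowTop, he, Finset.sup_empty]
  · right
    obtain ⟨A, hA, hmax⟩ := (s.filter fun Q => x ∉ Q).exists_maximal hne
    rw [Finset.mem_filter] at hA
    have hle : ∀ Q ∈ s.filter (fun Q => x ∉ Q), Q ≤ A := fun Q hQ =>
      (hs.2.1 Q (Finset.mem_filter.1 hQ).1 A hA.1).elim id fun h => hmax hQ h
    rw [lowTop, le_antisymm (Finset.sup_le (f := id) hle) (Finset.le_sup (f := id) (Finset.mem_filter.2 hA))]
    exact hA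

lemma le_lowTop {Q : Subgroup G} (hQ : Q ∈ s) (hxQ : x ∉ Q) : Q ≤ lowTop x s :=
  Finset.le_sup (f := id) (Finset.mem_filter.2 ⟨hQ, hxQ⟩)

lemma lowTop_le_normalizer (hs : IsNormalChain p s) :
    chainTop s ≤ Subgroup.normalizer (lowTop x s : Set G) ∧
      chainStab s ≤ Subgroup.normalizer (lowTop x s : Set G) := by
  rcases lowTop_cases (x := x) hs with he | ⟨hA, -⟩
  · rw [he]
    exact ⟨le_normalizer_bot _, le_normalizer_bot _⟩
  · exact ⟨((exists_top hs).2 _ hA).2, chainStab_le hA⟩

lemma lowTop_le_of_mem (hs : IsNormalChain p s) {Q : Subgroup G} (hQ : Q ∈ s) (hxQ : x ∈ Q) :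
    lowTop x s ≤ Q := by
  rcases lowTop_cases (x := x) hs with he | ⟨hA, hxA⟩
  · rw [he]
    exact bot_le
  · exact (hs.2.1 _ hA Q hQ).resolve_right fun h => hxA (h hxQ)

/-- The pivot when `x` lies in the largest member. -/
lemma pivot_in (hs : IsNormalChain p s) (hx : x ∈ chainTop s) :
    pivot x s ≤ chainTop s ∧ chainTop s ≤ Subgroup.normalizer (pivot x s : Set G) ∧
      ∀ Q ∈ s, Q ≤ pivot x s ∨ pivot x s ≤ Q := by
  obtain ⟨hTs, hT⟩ := exists_top hs
  rw [pivot, if_pos hx]
  refine ⟨sup_le (lowTop_le_of_mem hs hTs hx) (conjClosure_le hx Subgroup.le_normalizer),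
    le_normalizer_sup (lowTop_le_normalizer hs).1 fun g hg =>
      mem_normalizer_conjClosure (Subgroup.le_normalizer hg) ⟨g, hg, rfl⟩, fun Q hQ => ?_⟩
  by_cases hxQ : x ∈ Q
  · exact Or.inr (sup_le (lowTop_le_of_mem hs hQ hxQ) (conjClosure_le hxQ (hT Q hQ).2))
  · exact Or.inl ((le_lowTop hQ hxQ).trans le_sup_left)

/-- The pivot when `x` lies outside the largest member. -/
lemma pivot_out (hs : IsNormalChain p s) (hstab : x ∈ chainStab s) (hx : x ∉ chainTop s) :
    ∀ Q ∈ s, Q ≤ pivot x s ∧ pivot x s ≤ Subgroup.normalizer (Q : Set G) := by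
  rw [pivot, if_neg hx]
  exact fun Q hQ => ⟨((exists_top hs).2 Q hQ).1.trans le_sup_left,
    sup_le ((exists_top hs).2 Q hQ).2 (Subgroup.zpowers_le.2 (chainStab_le hQ hstab))⟩

/-- Elements that fix `x` and stabilize the chain normalize the pivot. -/
lemma centralizer_inf_le_normalizer_pivot (hs : IsNormalChain p s) :
    Subgroup.centralizer ({x} : Set G) ⊓ chainStab s ≤ Subgroup.normalizer (pivot x s : Set G) := by
  have hT := (exists_top hs).1
  have hfix : ∀ g ∈ Subgroup.centralizer ({x} : Set G), g * x * g⁻¹ = x := fun g hg =>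
    mul_inv_eq_of_eq_mul (Subgroup.mem_centralizer_singleton_iff.1 hg)
  unfold pivot
  split_ifs with hx
  · refine le_normalizer_sup (inf_le_right.trans (lowTop_le_normalizer hs).2) fun g hg => ?_
    exact mem_normalizer_conjClosure (chainStab_le hT hg.2) ⟨1, one_mem _, by simp [hfix g hg.1]⟩
  · refine le_normalizer_sup (inf_le_right.trans (chainStab_le hT)) fun g hg => ?_
    rw [Subgroup.mem_normalizer_iff_map_conj_eq, MonoidHom.map_zpowers]
    congr 1
    exact hfix g hg.1

end

section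

variable [Finite G] [Fact p.Prime] {x : G} {s : Finset (Subgroup G)}

/-- Toggling a chain gives a chain with the same pivot. -/
theorem toggle_spec (hp : ∃ k, orderOf x = p ^ k) (hs : IsNormalChain p s) (hstab : x ∈ chainStab s)
    (hne : x ≠ 1) (hfix : s ≠ {Subgroup.zpowers x}) :
    IsNormalChain p (toggle x s) ∧ x ∈ chainStab (toggle x s) ∧ pivot x (toggle x s) = pivot x s := by
  obtain ⟨hTs, hT⟩ := exists_top hs
  have hpT : IsPGroup p (chainTop s) := (hs.2.2.1 _ hTs).2
  have hRbot : pivot x s ≠ ⊥ := fun e => hne (Subgroup.mem_bot.1 (e ▸ mem_pivot x s))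
  have hxR := mem_pivot x s
  by_cases hmem : pivot x s ∈ s
  · -- removing the pivot
    have hxT : x ∈ chainTop s := (hT _ hmem).1 hxR
    have hRdef : pivot x s = lowTop x s ⊔ conjClosure x (chainTop s) := by rw [pivot, if_pos hxT]
    rw [toggle, if_pos hmem]
    have hstab' : x ∈ chainStab (s.erase (pivot x s)) :=
      mem_chainStab.2 fun Q hQ => mem_chainStab.1 hstab Q (Finset.mem_of_mem_erase hQ)
    by_cases hRT : pivot x s = chainTop s
    · have hout : ∀ Q ∈ s, Q ≠ pivot x s → x ∉ Q := fun Q hQ hQR hxQ => hQR <|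
        le_antisymm (hRT ▸ (hT Q hQ).1) (by
          rw [hRdef]
          exact sup_le (lowTop_le_of_mem hs hQ hxQ) (conjClosure_le hxQ (hT Q hQ).2))
      have hAT : lowTop x s ≤ chainTop s := lowTop_le_of_mem hs hTs hxT
      have hgen : chainTop s = lowTop x s ⊔ Subgroup.zpowers x :=
        eq_sup_zpowers hpT hxT hAT (hRT.symm.trans hRdef)
      have hA : lowTop x s ∈ s ∧ x ∉ lowTop x s := by
        refine (lowTop_cases (x := x) hs).resolve_left fun he => hfix ?_
        rw [he, bot_sup_eq] at hgen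
        refine Finset.eq_singleton_iff_unique_mem.2 ⟨hgen ▸ hTs, fun Q hQ => ?_⟩
        by_contra hQ'
        have hxQ := hout Q hQ (by rw [hRT, hgen]; exact hQ')
        exact (hs.2.2.1 Q hQ).1 (le_bot_iff.1 ((le_lowTop hQ hxQ).trans he.le))
      have hA' : lowTop x s ∈ s.erase (pivot x s) :=
        Finset.mem_erase.2 ⟨fun e => hA.2 (by rw [e]; exact hxR), hA.1⟩
      have hle : ∀ Q ∈ s.erase (pivot x s), Q ≤ lowTop x s := fun Q hQ =>
        le_lowTop (Finset.mem_of_mem_erase hQ) (hout Q (Finset.mem_of_mem_erase hQ) (Finset.ne_of_mem_erase hQ))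
      refine ⟨⟨⟨_, hA'⟩, fun Q hQ R hR => hs.2.1 Q (Finset.mem_of_mem_erase hQ) R (Finset.mem_of_mem_erase hR),
        fun Q hQ => hs.2.2.1 Q (Finset.mem_of_mem_erase hQ), _, hA', fun Q hQ => ⟨hle Q hQ,
          hAT.trans (hT Q (Finset.mem_of_mem_erase hQ)).2⟩⟩, hstab', ?_⟩
      have htop := chainTop_eq hA' hle
      conv_lhs => rw [pivot, htop, if_neg hA.2, ← hgen]
      exact hRT.symm
    · have hT' : chainTop s ∈ s.erase (pivot x s) := Finset.mem_erase.2 ⟨Ne.symm hRT, hTs⟩
      refine ⟨⟨⟨_, hT'⟩, fun Q hQ R hR => hs.2.1 Q (Finset.mem_of_mem_erase hQ) R (Finset.mem_of_mem_erase hR),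
        fun Q hQ => hs.2.2.1 Q (Finset.mem_of_mem_erase hQ), _, hT',
          fun Q hQ => hT Q (Finset.mem_of_mem_erase hQ)⟩, hstab', ?_⟩
      have htop := chainTop_eq hT' fun Q hQ => (hT Q (Finset.mem_of_mem_erase hQ)).1
      have hlow : lowTop x (s.erase (pivot x s)) = lowTop x s := by
        rw [lowTop, lowTop, Finset.filter_erase, Finset.erase_eq_of_notMem]
        exact fun h => (Finset.mem_filter.1 h).2 hxR
      conv_lhs => rw [pivot, htop, if_pos hxT, hlow, ← hRdef]
  · -- adding the pivot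
    rw [toggle, if_neg hmem]
    have hstab' : x ∈ chainStab (insert (pivot x s) s) := by
      rw [chainStab_insert]
      exact ⟨Subgroup.le_normalizer hxR, hstab⟩
    by_cases hxT : x ∈ chainTop s
    · obtain ⟨hRle, hRn, hcomp⟩ := pivot_in hs hxT
      have hT' : chainTop s ∈ insert (pivot x s) s := Finset.mem_insert_of_mem hTs
      refine ⟨⟨Finset.insert_nonempty _ _, fun Q hQ R hR => ?_, fun Q hQ => ?_, _, hT', fun Q hQ => ?_⟩,
        hstab', ?_⟩
      · rcases Finset.mem_insert.1 hQ with h1 | h1 <;> rcases Finset.mem_insert.1 hR with h2 | h2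
        · exact Or.inl (h1.trans h2.symm).le
        · exact h1 ▸ (hcomp R h2).symm
        · exact h2 ▸ hcomp Q h1
        · exact hs.2.1 Q h1 R h2
      · rcases Finset.mem_insert.1 hQ with rfl | h1
        · exact ⟨hRbot, hpT.to_le hRle⟩
        · exact hs.2.2.1 Q h1
      · rcases Finset.mem_insert.1 hQ with rfl | h1
        · exact ⟨hRle, hRn⟩
        · exact hT Q h1
      · have htop : chainTop (insert (pivot x s) s) = chainTop s := by
          refine chainTop_eq hT' fun Q hQ => ?_
          rcases Finset.mem_insert.1 hQ with rfl | h1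
          · exact hRle
          · exact (hT Q h1).1
        have hlow : lowTop x (insert (pivot x s) s) = lowTop x s := by
          rw [lowTop, lowTop, Finset.filter_insert, if_neg (not_not.2 hxR)]
        conv_lhs => rw [pivot, htop, if_pos hxT, hlow]
        rw [pivot, if_pos hxT]
    · have hR := pivot_out hs hstab hxT
      have hT' : pivot x s ∈ insert (pivot x s) s := Finset.mem_insert_self _ _
      refine ⟨⟨Finset.insert_nonempty _ _, fun Q hQ R hR' => ?_, fun Q hQ => ?_, _, hT', fun Q hQ => ?_⟩,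
        hstab', ?_⟩
      · rcases Finset.mem_insert.1 hQ with h1 | h1 <;> rcases Finset.mem_insert.1 hR' with h2 | h2
        · exact Or.inl (h1.trans h2.symm).le
        · exact h1 ▸ Or.inr (hR R h2).1
        · exact h2 ▸ Or.inl (hR Q h1).1
        · exact hs.2.1 Q h1 R h2
      · rcases Finset.mem_insert.1 hQ with rfl | h1
        · refine ⟨hRbot, ?_⟩
          rw [pivot, if_neg hxT, sup_comm]
          obtain ⟨k, hk⟩ := hp
          exact (IsPGroup.of_card (n := k) (by rw [Nat.card_zpowers, hk])).to_sup_of_normal_right' hpT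
            (Subgroup.zpowers_le.2 (chainStab_le hTs hstab))
        · exact hs.2.2.1 Q h1
      · rcases Finset.mem_insert.1 hQ with rfl | h1
        · exact ⟨le_rfl, Subgroup.le_normalizer⟩
        · exact hR Q h1
      · have htop : chainTop (insert (pivot x s) s) = pivot x s := by
          refine chainTop_eq hT' fun Q hQ => ?_
          rcases Finset.mem_insert.1 hQ with rfl | h1
          · exact le_rfl
          · exact (hR Q h1).1
        have hlow : lowTop x (insert (pivot x s) s) = chainTop s := by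
          rw [lowTop, Finset.filter_insert, if_neg (not_not.2 hxR), Finset.filter_true_of_mem]
          · rfl
          · exact fun Q hQ h => hxT ((hT Q hQ).1 h)
        conv_lhs => rw [pivot, htop, if_pos hxR, hlow]
        refine le_antisymm (sup_le (hR _ hTs).1 (conjClosure_le hxR Subgroup.le_normalizer)) ?_
        conv_lhs => rw [pivot, if_neg hxT]
        exact sup_le_sup_left (Subgroup.zpowers_le.2 (mem_conjClosure x _)) _

theorem toggle_toggle (hp : ∃ k, orderOf x = p ^ k) (hs : IsNormalChain p s) (hstab : x ∈ chainStab s)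
    (hne : x ≠ 1) (hfix : s ≠ {Subgroup.zpowers x}) : toggle x (toggle x s) = s := by
  have hR := (toggle_spec hp hs hstab hne hfix).2.2
  by_cases hmem : pivot x s ∈ s
  · have e1 : toggle x s = s.erase (pivot x s) := by rw [toggle, if_pos hmem]
    rw [e1] at hR ⊢
    rw [toggle, hR, if_neg (Finset.notMem_erase _ _), Finset.insert_erase hmem]
  · have e1 : toggle x s = insert (pivot x s) s := by rw [toggle, if_neg hmem]
    rw [e1] at hR ⊢
    rw [toggle, hR, if_pos (Finset.mem_insert_self _ _), Finset.erase_insert hmem]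

theorem toggle_ne_fixed (hp : ∃ k, orderOf x = p ^ k) (hs : IsNormalChain p s) (hstab : x ∈ chainStab s)
    (hne : x ≠ 1) (hfix : s ≠ {Subgroup.zpowers x}) : toggle x s ≠ {Subgroup.zpowers x} := by
  intro e
  have hR := (toggle_spec hp hs hstab hne hfix).2.2
  have hz : pivot x ({Subgroup.zpowers x} : Finset (Subgroup G)) = Subgroup.zpowers x := by
    rw [pivot, chainTop, Finset.sup_singleton, id, if_pos (Subgroup.mem_zpowers x), lowTop,
      Finset.filter_singleton, if_neg (not_not.2 (Subgroup.mem_zpowers x)), Finset.sup_empty, bot_sup_eq]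
    exact le_antisymm (conjClosure_le (Subgroup.mem_zpowers x) Subgroup.le_normalizer)
      (Subgroup.zpowers_le.2 (mem_conjClosure x _))
  have h2 := toggle_toggle hp hs hstab hne hfix
  rw [e, toggle, hz, if_pos (Finset.mem_singleton_self _), Finset.erase_singleton] at h2
  exact hs.1.ne_empty h2.symm

/-- Elements that fix `x` see no difference between a chain and its toggle. -/
theorem centralizer_inf_toggle (hp : ∃ k, orderOf x = p ^ k) (hs : IsNormalChain p s)
    (hstab : x ∈ chainStab s) (hne : x ≠ 1) (hfix : s ≠ {Subgroup.zpowers x}) :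
    Subgroup.centralizer ({x} : Set G) ⊓ chainStab (toggle x s) =
      Subgroup.centralizer ({x} : Set G) ⊓ chainStab s := by
  obtain ⟨hs', -, hR⟩ := toggle_spec hp hs hstab hne hfix
  have h1 := centralizer_inf_le_normalizer_pivot (x := x) hs
  have h2 := centralizer_inf_le_normalizer_pivot (x := x) hs'
  rw [hR] at h2
  by_cases hmem : pivot x s ∈ s
  · rw [toggle, if_pos hmem] at h2 ⊢
    conv_rhs => rw [← Finset.insert_erase hmem, chainStab_insert]
    exact le_antisymm (le_inf inf_le_left (le_inf h2 inf_le_right)) (inf_le_inf le_rfl inf_le_right)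
  · rw [toggle, if_neg hmem, chainStab_insert]
    exact le_antisymm (inf_le_inf le_rfl inf_le_right) (le_inf inf_le_left (le_inf h1 inf_le_right))

lemma sign_toggle (hs : IsNormalChain p s) (hs' : IsNormalChain p (toggle x s)) :
    (-1 : ℤ) ^ (s.card - 1) + (-1 : ℤ) ^ ((toggle x s).card - 1) = 0 := by
  have h1 := hs.1.card_pos
  have h2 := hs'.1.card_pos
  unfold toggle at h2 ⊢
  split_ifs at h2 ⊢ with hmem
  · rw [Finset.card_erase_of_mem hmem] at h2 ⊢
    obtain ⟨n, hn⟩ : ∃ n, s.card = n + 2 := ⟨s.card - 2, by omega⟩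
    rw [hn, show n + 2 - 1 - 1 = n by omega, show n + 2 - 1 = n + 1 by omega, pow_succ]
    ring
  · rw [Finset.card_insert_of_notMem hmem]
    obtain ⟨n, hn⟩ : ∃ n, s.card = n + 1 := ⟨s.card - 1, by omega⟩
    rw [hn, show n + 1 + 1 - 1 = n + 1 by omega, show n + 1 - 1 = n by omega, pow_succ]
    ring

/-- Only the chain with the single member `⟨x⟩` survives in the alternating sum. -/
theorem sum_chains_fixed_by (hp : ∃ k, orderOf x = p ^ k) (hne : x ≠ 1)
    (C : Finset (Finset (Subgroup G))) (hC : ∀ t, t ∈ C ↔ IsNormalChain p t ∧ x ∈ chainStab t)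
    (F : Subgroup G → ℤ) :
    ∑ t ∈ C, (-1 : ℤ) ^ (t.card - 1) * F (Subgroup.centralizer ({x} : Set G) ⊓ chainStab t) =
      F (Subgroup.centralizer ({x} : Set G)) := by
  have hnorm : x ∈ Subgroup.normalizer (Subgroup.zpowers x : Set G) :=
    Subgroup.le_normalizer (Subgroup.mem_zpowers x)
  have h0 : ({Subgroup.zpowers x} : Finset (Subgroup G)) ∈ C := by
    refine (hC _).2 ⟨⟨Finset.singleton_nonempty _, ?_, ?_, _, Finset.mem_singleton_self _, ?_⟩, ?_⟩
    · simp
    · intro Q hQ
      rw [Finset.mem_singleton.1 hQ]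
      obtain ⟨k, hk⟩ := hp
      exact ⟨Subgroup.zpowers_ne_bot.2 hne, IsPGroup.of_card (n := k) (by rw [Nat.card_zpowers, hk])⟩
    · intro Q hQ
      rw [Finset.mem_singleton.1 hQ]
      exact ⟨le_rfl, Subgroup.le_normalizer⟩
    · refine mem_chainStab.2 fun Q hQ => ?_
      rw [Finset.mem_singleton.1 hQ]
      exact hnorm
  have hfirst : Subgroup.centralizer ({x} : Set G) ⊓ chainStab {Subgroup.zpowers x} =
      Subgroup.centralizer ({x} : Set G) := by
    refine inf_eq_left.2 fun g hg => mem_chainStab.2 fun Q hQ => ?_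
    rw [Finset.mem_singleton.1 hQ, Subgroup.mem_normalizer_iff_map_conj_eq, MonoidHom.map_zpowers]
    congr 1
    exact mul_inv_eq_of_eq_mul (Subgroup.mem_centralizer_singleton_iff.1 hg)
  rw [← Finset.add_sum_erase C _ h0, hfirst, Finset.card_singleton, Nat.sub_self, pow_zero, one_mul]
  refine add_eq_left.2 (Finset.sum_involution (fun t _ => toggle x t) (fun t ht => ?_) (fun t ht hnz => ?_)
    (fun t ht => ?_) (fun t ht => ?_))
  · obtain ⟨h1, ⟨h2, h3⟩⟩ := Finset.mem_erase.1 ht |>.imp id (hC t).1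
    rw [centralizer_inf_toggle hp h2 h3 hne h1, ← add_mul,
      sign_toggle h2 (toggle_spec hp h2 h3 hne h1).1, zero_mul]
  · intro e
    have h := congrArg (pivot x t ∈ ·) e
    simp only [toggle] at h
    split_ifs at h with hm
    · simp [hm] at h
    · simp [hm] at h
  · obtain ⟨h1, ⟨h2, h3⟩⟩ := Finset.mem_erase.1 ht |>.imp id (hC t).1
    obtain ⟨h4, h5, -⟩ := toggle_spec hp h2 h3 hne h1
    exact Finset.mem_erase.2 ⟨toggle_ne_fixed hp h2 h3 hne h1, (hC _).2 ⟨h4, h5⟩⟩
  · obtain ⟨h1, ⟨h2, h3⟩⟩ := Finset.mem_erase.1 ht |>.imp id (hC t).1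
    exact toggle_toggle hp h2 h3 hne h1

end

end CfsgLib.CharsMore.Chains
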